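import Groth.Agent.Grpsch.Cube
import Groth.Agent.Fga.RigGrp
import Groth.Prelude.Def_AbDual
import Mathlib.AlgebraicGeometry.Geometrically.Connected

/-!
# The Mumford (Lambda) class of an invertible class is algebraically trivial on geometric fibres

For a group scheme `A` of finite type over a field with geometrically connected structure map, a class `c ∈ Pic A`
and points `a b : T ⟶ A`, `lam a b c = (a b)^* c - a^* c - b^* c`.  The class `lam pr₁ (pr₂ ≫ x) c` on `A × T` is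
a `Pic⁰` class over `T` for every `x : T ⟶ A`.
-/

set_option autoImplicit false
universe u

open CategoryTheory Limits MonoidalCategory CartesianMonoidalCategory AlgebraicGeometry
open scoped MonObj

namespace K513.Lam

open Groth.Agent.Grpsch.PicGrp Groth.Agent.Grpsch.Cube Groth.Agent.Fga.RigGrp

variable {K : Type u} [Field K] {A : Over (Spec (CommRingCat.of K))} [GrpObj A]

/-- The Mumford class of `c` at the pair of points `(a, b)`. -/
noncomputable def lam {T : Over (Spec (CommRingCat.of K))} (a b : T ⟶ A) (c : Pic A.left) : Pic T.left :=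
  pl (a * b) c * (pl a c)⁻¹ * (pl b c)⁻¹

theorem lam_comp {T T' : Over (Spec (CommRingCat.of K))} (f : T' ⟶ T) (a b : T ⟶ A) (c : Pic A.left) :
    pl f (lam a b c) = lam (f ≫ a) (f ≫ b) c := by
  simp only [lam, map_mul, map_inv, ← pl_comp, MonObj.comp_mul]

theorem lam_one_right {T : Over (Spec (CommRingCat.of K))} (a : T ⟶ A) (c : Pic A.left) :
    lam a (1 : T ⟶ A) c = 1 := by
  rw [lam, mul_one, pl_one]
  simp

theorem lam_one_left {T : Over (Spec (CommRingCat.of K))} (a : T ⟶ A) (c : Pic A.left) :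
    lam (1 : T ⟶ A) a c = 1 := by
  rw [lam, one_mul, pl_one]
  simp

theorem lam_mul {T : Over (Spec (CommRingCat.of K))} (a b : T ⟶ A) (c d : Pic A.left) :
    lam a b (c * d) = lam a b c * lam a b d := by
  simp only [lam, map_mul, mul_inv_rev]
  generalize pl (a * b) c = x1; generalize pl (a * b) d = x2
  generalize pl a c = y1; generalize pl a d = y2
  generalize pl b c = z1; generalize pl b d = z2
  apply Eq.symm
  calc x1 * y1⁻¹ * z1⁻¹ * (x2 * y2⁻¹ * z2⁻¹) = x1 * x2 * (y2⁻¹ * y1⁻¹) * (z2⁻¹ * z1⁻¹) := by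
        simp only [mul_comm, mul_left_comm, mul_assoc]
    _ = _ := rfl

theorem lam_pow {T : Over (Spec (CommRingCat.of K))} (a b : T ⟶ A) (c : Pic A.left) (n : ℕ) :
    lam a b (c ^ n) = lam a b c ^ n := by
  induction n with
  | zero => simp [lam]
  | succ n ih => rw [pow_succ, lam_mul, ih, pow_succ]

theorem lam_comm [IsCommMonObj A] {T : Over (Spec (CommRingCat.of K))} (a b : T ⟶ A) (c : Pic A.left) :
    lam a b c = lam b a c := by
  rw [lam, lam, mul_comm a b, mul_assoc, mul_assoc, mul_comm (pl a c)⁻¹]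

/-- Translates are algebraically equivalent to zero. -/
theorem isAlgEquivZero_lam [GeometricallyConnected A.hom] [LocallyOfFiniteType A.hom]
    [QuasiCompact A.hom] (c : Pic A.left) (Ω : Type u) [Field Ω] (X : Scheme.{u})
    (p : X ⟶ Spec (CommRingCat.of Ω)) (j : Spec (CommRingCat.of Ω) ⟶ Spec (CommRingCat.of K))
    (a : Over.mk (p ≫ j) ⟶ A) (b : Over.mk j ⟶ A) (L : X.Modules) (hL : PicF.IsInvertible L)
    (h : mk L hL = lam a ((Over.homMk p rfl : Over.mk (p ≫ j) ⟶ Over.mk j) ≫ b) c) :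
    @Pic13.IsAlgEquivZero Ω _ X ⟨p⟩ L := by
  let _ : X.Over (Spec (CommRingCat.of Ω)) := ⟨p⟩
  let T : Scheme.{u} := pullback A.hom j
  let q : T ⟶ Spec (CommRingCat.of Ω) := pullback.snd A.hom j
  let V : Over (Spec (CommRingCat.of K)) :=
    Over.mk ((pullback.fst (X ↘ Spec (CommRingCat.of Ω)) q ≫ p) ≫ j)
  let p₁' : V ⟶ Over.mk (p ≫ j) := Over.homMk (pullback.fst (X ↘ Spec (CommRingCat.of Ω)) q)
    (by simp [V])
  let p₂ : V ⟶ A := Over.homMk (pullback.snd (X ↘ Spec (CommRingCat.of Ω)) q ≫ pullback.fst A.hom j)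
    (by
      have h1 : pullback.fst (X ↘ Spec (CommRingCat.of Ω)) q ≫ p =
        pullback.snd (X ↘ Spec (CommRingCat.of Ω)) q ≫ q := pullback.condition
      change (_ ≫ _) ≫ A.hom = (pullback.fst (X ↘ Spec (CommRingCat.of Ω)) q ≫ p) ≫ j
      rw [Category.assoc, pullback.condition, h1, Category.assoc])
  obtain ⟨M, hM, hMc⟩ := exists_mk (lam (p₁' ≫ a) p₂ c)
  have hq1 : LocallyOfFiniteType q := inferInstance
  have hq2 : QuasiCompact q := inferInstance
  have hq3 : GeometricallyConnected q := inferInstance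
  have hq4 : ConnectedSpace T := GeometricallyConnected.connectedSpace_of_subsingleton q
  have key : ∀ (b' : Over.mk j ⟶ A) (t : Spec (CommRingCat.of Ω) ⟶ T) (ht : t ≫ q = 𝟙 _)
      (_ : t ≫ pullback.fst A.hom j = b'.left),
      pull (Pic13.sliceAt Ω X q t ht) (lam (p₁' ≫ a) p₂ c) =
        lam a ((Over.homMk p rfl : Over.mk (p ≫ j) ⟶ Over.mk j) ≫ b') c := by
    intro b' t ht htb
    let s : Over.mk (p ≫ j) ⟶ V := Over.homMk (Pic13.sliceAt Ω X q t ht) (by
      change Pic13.sliceAt Ω X q t ht ≫ (pullback.fst (X ↘ Spec (CommRingCat.of Ω)) q ≫ p) ≫ j = p ≫ j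
      rw [Pic13.sliceAt, ← Category.assoc, ← Category.assoc, pullback.lift_fst, Category.id_comp])
    have h1 : s ≫ p₁' = 𝟙 _ := by
      ext1
      exact pullback.lift_fst _ _ _
    have h2 : s ≫ p₂ = (Over.homMk p rfl : Over.mk (p ≫ j) ⟶ Over.mk j) ≫ b' := by
      ext1
      change Pic13.sliceAt Ω X q t ht ≫ pullback.snd (X ↘ Spec (CommRingCat.of Ω)) q ≫
        pullback.fst A.hom j = p ≫ b'.left
      rw [Pic13.sliceAt, pullback.lift_snd_assoc, Category.assoc, htb]
      rfl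
    have h3 := lam_comp s (p₁' ≫ a) p₂ c
    rw [← Category.assoc, h1, Category.id_comp, h2] at h3
    exact h3
  have w1 : ∀ b' : Over.mk j ⟶ A, b'.left ≫ A.hom = 𝟙 _ ≫ j := fun b' => by
    rw [Category.id_comp]
    exact Over.w b'
  refine ⟨T, q, hq4, hq1, hq2, M, hM, pullback.lift b.left (𝟙 _) (w1 b),
    pullback.lift (1 : Over.mk j ⟶ A).left (𝟙 _) (w1 1), pullback.lift_snd _ _ _,
    pullback.lift_snd _ _ _, ?_, ?_⟩
  · rw [Pic13.fibreMod, ← mk_eq_iff (Groth.Agent.Fdesc.LocGen.isInvertible_pullback _ hM) hL,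
      ← pull_mk _ hM, ← hMc, key b _ _ (pullback.lift_fst _ _ _), h]
  · rw [Pic13.fibreMod, ← mk_eq_iff (Groth.Agent.Fdesc.LocGen.isInvertible_pullback _ hM)
      Groth.Agent.Fdesc.LocGen.isInvertible_structureModule, ← pull_mk _ hM,
      ← hMc, key 1 _ _ (pullback.lift_fst _ _ _), MonObj.comp_one, lam_one_right]
    rfl

/-- The Mumford class is a `Pic⁰` class. -/
theorem isPicZeroCl_lam [GeometricallyConnected A.hom] [LocallyOfFiniteType A.hom]
    [QuasiCompact A.hom] (c : Pic A.left) (T : Over (Spec (CommRingCat.of K))) (x : T ⟶ A) :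
    AbDual.IsPicZeroCl A.hom T (toCl (lam (fst A T) (snd A T ≫ x) c : Pic (A ⊗ T).left)) := by
  obtain ⟨L, hL, hLc⟩ := exists_mk (lam (fst A T) (snd A T ≫ x) c : Pic (A ⊗ T).left)
  refine ⟨L, by rw [hLc]; rfl, hL, fun t Ω _ _ σ _ => ?_⟩
  let X : Scheme.{u} := pullback (PicF.XTproj A.hom T) σ
  let r : Over.mk (pullback.snd (PicF.XTproj A.hom T) σ ≫ σ ≫ T.hom) ⟶ A ⊗ T :=
    Over.homMk (pullback.fst (PicF.XTproj A.hom T) σ) (by
      change _ ≫ (pullback.fst A.hom T.hom ≫ A.hom) = pullback.snd (PicF.XTproj A.hom T) σ ≫ σ ≫ T.hom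
      rw [← Category.assoc, Category.assoc, pullback.condition, ← Category.assoc, pullback.condition,
        Category.assoc])
  let σ' : Over.mk (σ ≫ T.hom) ⟶ T := Over.homMk σ rfl
  refine isAlgEquivZero_lam c Ω X (pullback.snd (PicF.XTproj A.hom T) σ) (σ ≫ T.hom) (r ≫ fst A T)
    (σ' ≫ x) _ (Groth.Agent.Fdesc.LocGen.isInvertible_pullback _ hL) ?_
  rw [← pull_mk _ hL, ← hLc]
  refine (lam_comp r (fst A T) (snd A T ≫ x) c).trans ?_
  have h2 : r ≫ snd A T = (Over.homMk (pullback.snd (PicF.XTproj A.hom T) σ) rfl :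
      Over.mk (pullback.snd (PicF.XTproj A.hom T) σ ≫ σ ≫ T.hom) ⟶ Over.mk (σ ≫ T.hom)) ≫ σ' := by
    ext1
    exact pullback.condition
  have h3 : r ≫ snd A T ≫ x = (Over.homMk (pullback.snd (PicF.XTproj A.hom T) σ) rfl :
      Over.mk (pullback.snd (PicF.XTproj A.hom T) σ ≫ σ ≫ T.hom) ⟶ Over.mk (σ ≫ T.hom)) ≫ σ' ≫ x := by
    rw [← reassoc_of% h2]
  rw [h3]

end K513.Lam
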