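import Groth.Agent.PerfB.BCTens340
import Groth.Agent.PerfB.BCFrozen280
import Groth.Agent.Dcoh.BCFrozen1058
import Groth.Agent.PerfB.TensInv
import Groth.Agent.Dcoh.KFlatMod
import Groth.Agent.S0956

/-!
# The base change transformation `Lg^* Rf_* ⟶ Rf'_* Lg'^*` as a natural transformation; derived pullback of
`- ⊗ P` for `P` flat, naturally
-/

set_option autoImplicit false

universe u

open CategoryTheory CategoryTheory.Limits AlgebraicGeometry Pretriangulated

attribute [local instance] HasDerivedCategory.standard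

namespace K513.BCNat

open Groth.Agent.PerfB.BCTot Groth.Agent.PerfB.BCTot.Tot Groth.Agent.PerfB.BCMod
  Groth.Agent.PerfB.BCCx Groth.Agent.PerfB.BCDer Groth.Agent.PerfB.BCSch Groth.Agent.PerfB.BCTri
  Groth.Agent.PerfB.BCShift Groth.Agent.PerfB.BCPush Groth.Agent.PerfB.BCAdapt
  Groth.Agent.Dcoh.BCFrozen1058
  Groth.Agent.Dcoh.DerHo Groth.Agent.Dcoh.DerComp Groth.Agent.Dcoh.DerAbs

section Abs

variable {𝒮 : Type*} [Category 𝒮] {D : 𝒮 → Type*} [∀ X, Category (D X)] (P : PullData D)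
  {X X' S S' : 𝒮} {f : X ⟶ S} {f' : X' ⟶ S'} {g : S' ⟶ S} {g' : X' ⟶ X} (w : g' ≫ f = f' ≫ g)
  {Rf : D X ⥤ D S} (adj : P.pull f ⊣ Rf) {Rf' : D X' ⥤ D S'} (adj' : P.pull f' ⊣ Rf')

/-- `f'^* g^* ≅ g'^* f^*` -/
def sqIso : P.pull g ⋙ P.pull f' ≅ P.pull f ⋙ P.pull g' :=
  P.compI f' g ≪≫ eqToIso (by rw [w]) ≪≫ (P.compI g' f).symm

/-- `f'^* g^* f_* ⟶ g'^*`. -/
def psi : (Rf ⋙ P.pull g) ⋙ P.pull f' ⟶ P.pull g' :=
  (Functor.associator _ _ _).hom ≫ Functor.whiskerLeft Rf (sqIso P w).hom ≫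
    (Functor.associator _ _ _).inv ≫ Functor.whiskerRight adj.counit (P.pull g') ≫
    (Functor.leftUnitor _).hom

/-- The base change transformation. -/
def bcHom : Rf ⋙ P.pull g ⟶ P.pull g' ⋙ Rf' where
  app K := adj'.homEquiv _ _ ((psi P w adj).app K)
  naturality K L φ := by
    have h := (psi P w adj).naturality φ
    refine (adj'.homEquiv_naturality_left _ _).symm.trans ?_
    refine Eq.trans ?_ (adj'.homEquiv_naturality_right _ _)
    exact congrArg _ h

theorem isIso_bcHom_app (K : D X) (h : BC (cartLift (P := P) ⟨X, K⟩ g') f f' g) :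
    IsIso ((bcHom P w adj adj').app K) := by
  let s : (⟨S', Rf'.obj ((P.pull g').obj K)⟩ : Tot P) ⟶ ⟨S, Rf.obj K⟩ :=
    ⟨g, (bcHom P w adj adj').app K⟩
  refine h _ _ (cocartLift f adj K) (cocartLift f' adj' _) s rfl rfl rfl
    (isCocart_cocartLift _ _ _) (isCocart_cocartLift _ _ _) ?_
  refine hom_ext w.symm ?_
  rw [comp_fib, comp_fib]
  have h1 : (P.pull f').map ((bcHom P w adj adj').app K) ≫ adj'.counit.app ((P.pull g').obj K) =
      (psi P w adj).app K := by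
    exact (adj'.homEquiv_counit _ _ _).symm.trans (Equiv.symm_apply_apply _ _)
  have h2 : (psi P w adj).app K = (P.compI f' g).hom.app (Rf.obj K) ≫
      eqToHom (by rw [w]) ≫ (P.compI g' f).inv.app (Rf.obj K) ≫ (P.pull g').map (adj.counit.app K) := by
    simp [psi, sqIso, eqToHom_app]
  change (P.compI f' g).inv.app (Rf.obj K) ≫ (P.pull f').map ((bcHom P w adj adj').app K) ≫
      adj'.counit.app ((P.pull g').obj K) = eqToHom _ ≫ (P.compI g' f).inv.app (Rf.obj K) ≫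
        (P.pull g').map (adj.counit.app K) ≫ 𝟙 _
  rw [h1, h2, Iso.inv_hom_id_app_assoc, Category.comp_id]

end Abs

attribute [local instance] hasLpull Groth.Agent.Dcoh.DerSch.hasRpush

section

variable {X X' S S' : Scheme.{u}} {f : X ⟶ S} {f' : X' ⟶ S'} {g : S' ⟶ S} {g' : X' ⟶ X}

/-- The base change transformation on derived categories of modules. -/
noncomputable def bc (w : g' ≫ f = f' ≫ g) :
    DCoh.Rpush f ⋙ DCoh.Lpull g ⟶ DCoh.Lpull g' ⋙ DCoh.Rpush f' :=
  bcHom dPull.{u} w (lAdj f) (lAdj f')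

theorem isKFlat_tensG {G : X.Modules} (hG : FlatMod.IsFlat G) (K : CochainComplex X.Modules ℤ)
    (hK : DCoh.IsKFlat K) :
    DCoh.IsKFlat (((DCoh.tensorRightMod G).mapHomologicalComplex (ComplexShape.up ℤ)).obj K) := by
  obtain ⟨e⟩ := Groth.Agent.Dcoh.LTMod.nonempty_singleIso' G
  exact Groth.Agent.Dcoh.KFlatMod.isKFlat_of_iso (e.app K).symm
    (Groth.Agent.S0956.result K _ hK (Groth.Agent.Dcoh.KFlatMod.isKFlat_single G hG 0))

/-- Base change is an isomorphism for `E ⊗ G`, `E` with quasi-coherent cohomology, `G` quasi-coherent and flat,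
and flat over the base. -/
theorem isIso_bc_app_tens [QuasiCompact f] [QuasiSeparated f] (sq : IsPullback g' f' f g)
    (G : X.Modules) (hG : Coh.IsQCoh G) (hG' : FlatMod.IsFlat G) (hflat : FlatMod.IsFlatOver f G)
    (E : DCoh.D X) (hE : DCoh.IsQCohD E) [DCoh.HasLTensorMod G] :
    IsIso ((bc sq.w).app ((DCoh.LTensorMod G).obj E)) := by
  obtain ⟨K, hK, ⟨e⟩⟩ := Groth.Agent.Dcoh.LDer.exists_iso (Groth.Agent.Dcoh.LTMod.adapted G) E
  have h1 := Groth.Agent.PerfB.BCTens340.bc_tens sq K hK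
    (Groth.Agent.PerfA.QCohD.isQCohD_of_iso e.symm hE) G hG hflat
  refine isIso_bcHom_app dPull.{u} sq.w (lAdj f) (lAdj f') _ ?_
  exact bc_of_kflat _ (isKFlat_tensG hG' K hK) _
    ((Groth.Agent.Dcoh.LTMod.isoQ G hK).symm ≪≫ (DCoh.LTensorMod G).mapIso e) h1

end

end K513.BCNat
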