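import Groth.Agent.AbVar.K513.BCNat

/-!
# Derived pullback of `- ⊗ P` for `P` flat, naturally
-/

set_option autoImplicit false

universe u

open CategoryTheory CategoryTheory.Limits AlgebraicGeometry Pretriangulated

attribute [local instance] HasDerivedCategory.standard

namespace K513.TensPull

open Groth.Agent.PerfB.BCTot Groth.Agent.PerfB.BCTot.Tot Groth.Agent.PerfB.BCMod
  Groth.Agent.PerfB.BCCx Groth.Agent.PerfB.BCDer Groth.Agent.PerfB.BCSch Groth.Agent.PerfB.BCTri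
  Groth.Agent.PerfB.BCShift Groth.Agent.PerfB.BCPush Groth.Agent.PerfB.BCAdapt
  Groth.Agent.Dcoh.BCFrozen1058
  Groth.Agent.Dcoh.DerHo Groth.Agent.Dcoh.DerComp Groth.Agent.Dcoh.DerAbs K513.BCNat

attribute [local instance] hasLpull Groth.Agent.Dcoh.DerSch.hasRpush

variable {X Y : Scheme.{u}} (j : X ⟶ Y) (G : Y.Modules)

/-- The functor `j^*(-) ⊗ j^*G`. -/
noncomputable abbrev pt : Y.Modules ⥤ X.Modules :=
  Scheme.Modules.pullback j ⋙ DCoh.tensorRightMod ((Scheme.Modules.pullback j).obj G)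

theorem quasiIso_pt {K L : CochainComplex Y.Modules ℤ} (φ : K ⟶ L) (hK : DCoh.IsKFlat K)
    (hL : DCoh.IsKFlat L) (hφ : QuasiIso φ) :
    QuasiIso (((pt j G).mapHomologicalComplex (ComplexShape.up ℤ)).map φ) := by
  have h := quasiIso_pullback j φ hK hL hφ
  have h2 := Groth.Agent.Dcoh.LTMod.quasiIso_tensorRightMod ((Scheme.Modules.pullback j).obj G)
    (((Scheme.Modules.pullback j).mapHomologicalComplex (ComplexShape.up ℤ)).map φ) h
    (Groth.Agent.PerfB.StalkKFlat.isKFlat_pullback j K hK)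
    (Groth.Agent.PerfB.StalkKFlat.isKFlat_pullback j L hL)
  exact h2

theorem leftDataPt : LeftData (𝟭 _) (qis Y.Modules) (mapQh (pt j G)) (ofCx (fun K => DCoh.IsKFlat K)) :=
  leftDataMap (pt j G) _ (exists_kflat (Y := Y)) (fun φ hK hL hφ => quasiIso_pt j G φ hK hL hφ)

theorem leftDataTens : LeftData (𝟭 _) (qis Y.Modules) (mapQh (DCoh.tensorRightMod G))
    (ofCx (fun K => DCoh.IsKFlat K)) :=
  leftDataMap (DCoh.tensorRightMod G) _ (exists_kflat (Y := Y)) (fun φ hK hL hφ =>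
    Groth.Agent.Dcoh.LTMod.quasiIso_tensorRightMod G φ hφ hK hL)

/-- `Lj^* (E ⊗ᴸ G) ≅ Lj^* E ⊗ᴸ j^* G`, naturally in `E`, for `G` flat. -/
theorem nonempty_tensPullIso (hG : FlatMod.IsFlat G) [DCoh.HasLTensorMod G] [DCoh.HasLpull j]
    [DCoh.HasLTensorMod ((Scheme.Modules.pullback j).obj G)] :
    Nonempty (DCoh.LTensorMod G ⋙ DCoh.Lpull j ≅
      DCoh.Lpull j ⋙ DCoh.LTensorMod ((Scheme.Modules.pullback j).obj G)) := by
  have hL : (mapQh (pt j G)).HasLeftDerivedFunctor (qis Y.Modules) :=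
    (leftDataPt j G).hasLeftDerivedFunctor
      (W₀ := HomotopyCategory.quasiIso Y.Modules (ComplexShape.up ℤ))
      (DerivedCategory.Qh.leftUnitor) (fun _ hw => hw)
  let L₃ := (mapQh (pt j G)).totalLeftDerived DerivedCategory.Qh (qis Y.Modules)
  obtain ⟨i, -⟩ := nonempty_compIso_left
    (Groth.Agent.PerfB.BCFrozen280.pullTens j G) (leftDataTens G) (leftDataPull j) (leftDataPt j G)
    (fun K hK => isKFlat_tensG hG _ hK)
    (DCoh.LTensorMod G) ((DCoh.tensorModKh G).totalLeftDerivedCounit DerivedCategory.Qh _)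
    (DCoh.Lpull j) (lpullCounit j) L₃ (Functor.totalLeftDerivedCounit _ DerivedCategory.Qh _)
  obtain ⟨i', -⟩ := nonempty_compIso_left
    (Iso.refl _ : Scheme.Modules.pullback j ⋙
      DCoh.tensorRightMod ((Scheme.Modules.pullback j).obj G) ≅ pt j G) (leftDataPull j)
    (leftDataTens ((Scheme.Modules.pullback j).obj G)) (leftDataPt j G)
    (fun K hK => Groth.Agent.PerfB.StalkKFlat.isKFlat_pullback j _ hK)
    (DCoh.Lpull j) (lpullCounit j)
    (DCoh.LTensorMod ((Scheme.Modules.pullback j).obj G))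
    ((DCoh.tensorModKh _).totalLeftDerivedCounit DerivedCategory.Qh _)
    L₃ (Functor.totalLeftDerivedCounit _ DerivedCategory.Qh _)
  exact ⟨i ≪≫ i'.symm⟩

end K513.TensPull
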