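import Groth.Agent.AbVar.K513.BCNat
import Groth.Agent.AbVar.K513.TensPull
import Groth.Agent.Dcoh.DerPull2
import Groth.Agent.PerfB.TensInv
import Groth.Agent.Grpsch.CubeClosed
import Groth.Agent.S1054
import Mathlib.CategoryTheory.Monoidal.Cartesian.Over

/-!
# The fibre of an integral transform with invertible kernel at a section
-/

set_option autoImplicit false

universe u

open CategoryTheory CategoryTheory.Limits AlgebraicGeometry MonoidalCategory CartesianMonoidalCategory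

attribute [local instance] HasDerivedCategory.standard

namespace K513.FMFib

open Groth.Agent.PerfB.BCTot Groth.Agent.PerfB.BCTot.Tot Groth.Agent.PerfB.BCSch
  Groth.Agent.Dcoh.DerPull

section Gen

variable {C D E E' : Type*} [Category C] [Category D] [Category E] [Category E']

theorem nonempty_iso_of_app (Φ : C ⥤ D) (T : D ⥤ E) {F G : E ⥤ E'} (β : F ⟶ G)
    (h : ∀ K, IsIso (β.app (T.obj (Φ.obj K)))) : Nonempty (Φ ⋙ T ⋙ F ≅ Φ ⋙ T ⋙ G) := by
  have h' : ∀ K, IsIso ((Functor.whiskerLeft Φ (Functor.whiskerLeft T β)).app K) := h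
  have := NatIso.isIso_of_isIso_app (Functor.whiskerLeft Φ (Functor.whiskerLeft T β))
  exact ⟨asIso (Functor.whiskerLeft Φ (Functor.whiskerLeft T β))⟩

end Gen

section Abs

attribute [local instance] Groth.Agent.PerfB.BCSch.hasLpull Groth.Agent.Dcoh.DerSch.hasRpush

variable {X X' S S' : Scheme.{u}} {f : X ⟶ S} {f' : X' ⟶ S'} {g : S' ⟶ S} {g' : X' ⟶ X}

/-- Base change for `LTensorMod P`, `P` invertible and `f` flat, as an isomorphism of functors on a full
subcategory mapping to complexes with quasi-coherent cohomology. -/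
theorem nonempty_bcTens [QuasiCompact f] [QuasiSeparated f] [Flat f] (sq : IsPullback g' f' f g)
    (P : X.Modules) (hP : PicF.IsInvertible P) {C : Type*} [Category C] (Φ : C ⥤ DCoh.D X)
    (hΦ : ∀ K, DCoh.IsQCohD (Φ.obj K)) [DCoh.HasLTensorMod P] :
    Nonempty (Φ ⋙ DCoh.LTensorMod P ⋙ DCoh.Rpush f ⋙ DCoh.Lpull g ≅
      Φ ⋙ DCoh.LTensorMod P ⋙ DCoh.Lpull g' ⋙ DCoh.Rpush f') := by
  have hq : Coh.IsQCoh P := Groth.Agent.PerfB.TensInv.isQCoh_of_isInvertible hP
  have hfl := Groth.Agent.PerfB.TensInv.isFlat_of_isInvertible hP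
  have hflo := Groth.Agent.Grpsch.CubeClosed.isFlatOver_of_isInvertible f hP
  exact nonempty_iso_of_app Φ (DCoh.LTensorMod P) (K513.BCNat.bc sq.w) fun K =>
    K513.BCNat.isIso_bc_app_tens sq P hq hfl hflo (Φ.obj K) (hΦ K)

end Abs

section Fib

variable {S : Scheme.{u}} (A At : Over S) (x : 𝟙_ (Over S) ⟶ At)

/-- The inclusion of the fibre `A = A × {x}`. -/
noncomputable abbrev fib : A.left ⟶ pullback A.hom At.hom :=
  (CartesianMonoidalCategory.lift (𝟙 A) (toUnit A ≫ x)).left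

theorem fib_fst : fib A At x ≫ pullback.fst A.hom At.hom = 𝟙 _ :=
  congrArg Over.Hom.left (lift_fst (𝟙 A) (toUnit A ≫ x))

theorem fib_snd : fib A At x ≫ pullback.snd A.hom At.hom = A.hom ≫ x.left :=
  congrArg Over.Hom.left (lift_snd (𝟙 A) (toUnit A ≫ x))

theorem isPullback_fib : IsPullback (fib A At x) A.hom (pullback.snd A.hom At.hom) x.left := by
  refine IsPullback.of_right (h₁₂ := pullback.fst A.hom At.hom) (h₂₂ := At.hom) (v₁₃ := A.hom) ?_
    (fib_snd A At x) (IsPullback.of_hasPullback A.hom At.hom)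
  have h2 : x.left ≫ At.hom = 𝟙 S := Over.w x
  rw [fib_fst, h2]
  exact IsPullback.of_id_fst

theorem nonempty_main [QuasiCompact A.hom] [QuasiSeparated A.hom] [Flat A.hom]
    (P : (pullback A.hom At.hom).Modules) (hP : PicF.IsInvertible P)
    [DCoh.HasLpull (pullback.fst A.hom At.hom)] [DCoh.HasLTensorMod P] [DCoh.HasRpush (pullback.snd A.hom At.hom)]
    [DCoh.HasLTensorMod ((Scheme.Modules.pullback (fib A At x)).obj P)]
    [DCoh.HasRpush A.hom] [DCoh.HasLpull x.left] :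
    Nonempty (ObjectProperty.ι (DCoh.IsQCohD (X := A.left)) ⋙
        DCoh.LTensorMod ((Scheme.Modules.pullback (fib A At x)).obj P) ⋙ DCoh.Rpush A.hom ≅
      ObjectProperty.ι (DCoh.IsQCohD (X := A.left)) ⋙ (DCoh.Lpull (pullback.fst A.hom At.hom) ⋙
        DCoh.LTensorMod P ⋙ DCoh.Rpush (pullback.snd A.hom At.hom)) ⋙ DCoh.Lpull x.left) := by
  have h0 : DCoh.HasLpull (fib A At x) := Groth.Agent.Dcoh.DerPull.hasLpull _
  have h0' : DCoh.HasLpull (fib A At x ≫ pullback.fst A.hom At.hom) := Groth.Agent.Dcoh.DerPull.hasLpull _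
  have h0'' : DCoh.HasLpull (𝟙 A.left) := Groth.Agent.Dcoh.DerPull.hasLpull _
  let ι := ObjectProperty.ι (DCoh.IsQCohD (X := A.left))
  obtain ⟨e1⟩ := nonempty_bcTens (isPullback_fib A At x) P hP
    (ι ⋙ DCoh.Lpull (pullback.fst A.hom At.hom))
    (fun K => Groth.Agent.S1054.result (pullback.fst A.hom At.hom) K.1 K.2)
  obtain ⟨e2⟩ := K513.TensPull.nonempty_tensPullIso (fib A At x) P
    (Groth.Agent.PerfB.TensInv.isFlat_of_isInvertible hP)
  let e3 : DCoh.Lpull (pullback.fst A.hom At.hom) ⋙ DCoh.Lpull (fib A At x) ≅ 𝟭 _ :=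
    lpullCompIso _ _ ≪≫ lpullCongr (fib_fst A At x) ≪≫ dPull.{u}.idI A.left
  let T := DCoh.LTensorMod P
  let T' := DCoh.LTensorMod ((Scheme.Modules.pullback (fib A At x)).obj P)
  let L1 := DCoh.Lpull (pullback.fst A.hom At.hom)
  let L2 := DCoh.Lpull (fib A At x)
  let R := DCoh.Rpush A.hom
  let e4 : ι ⋙ L1 ⋙ T ⋙ L2 ⋙ R ≅ ι ⋙ T' ⋙ R :=
    Functor.isoWhiskerLeft ι (Functor.isoWhiskerLeft L1 ((Functor.associator T L2 R).symm ≪≫
      Functor.isoWhiskerRight e2 R ≪≫ Functor.associator L2 T' R) ≪≫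
      (Functor.associator L1 L2 (T' ⋙ R)).symm ≪≫ Functor.isoWhiskerRight e3 (T' ⋙ R) ≪≫
      Functor.leftUnitor _)
  exact ⟨e4.symm ≪≫ (Functor.associator ι L1 (T ⋙ L2 ⋙ R)).symm ≪≫ e1.symm ≪≫
    Functor.associator ι L1 _ ≪≫ Iso.refl _⟩

end Fib

end K513.FMFib
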