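import Groth.Agent.Divis.StalkPrime
import Groth.Agent.Ega1.ReducedSub
import Groth.Agent.S1684
import Groth.Agent.S1568
import Mathlib.RingTheory.Ideal.KrullsHeightTheorem
import Mathlib.RingTheory.UniqueFactorizationDomain.Basic

/-!
# An effective Cartier divisor with irreducible support on a locally factorial scheme is a power of an integral one
-/

set_option autoImplicit false
universe u

open CategoryTheory CategoryTheory.Limits AlgebraicGeometry TopologicalSpace

namespace K513.PowDiv

open Groth.Agent.Divis.CartierBasic Groth.Agent.Divis.StalkPrime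

section Alg

/-- If every prime containing `c ≠ 0` contains the prime element `p`, then `(c) = (p) ^ m`. -/
theorem exists_span_eq_pow {R : Type*} [CommRing R] [IsDomain R] [IsNoetherianRing R] {c p : R}
    (hc : c ≠ 0) (hp : Prime p) (h : ∀ q : Ideal R, q.IsPrime → c ∈ q → p ∈ q) :
    ∃ m : ℕ, Ideal.span {c} = Ideal.span {p} ^ m := by
  obtain ⟨m, c', hc', rfl⟩ := WfDvdMonoid.max_power_factor hc hp.irreducible
  refine ⟨m, ?_⟩
  have hu : IsUnit c' := by
    by_contra hu
    have hne : Ideal.span {c'} ≠ ⊤ := by rwa [Ne, Ideal.span_singleton_eq_top]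
    obtain ⟨M, hM, hle⟩ := Ideal.exists_le_maximal _ hne
    obtain ⟨q, hq, -⟩ := Ideal.exists_minimalPrimes_le (J := M) hle
    have hqp : q.IsPrime := hq.1.1
    have h1 : q.height ≤ 1 := Ideal.height_le_one_of_isPrincipal_of_mem_minimalPrimes (Ideal.span {c'}) q hq
    have hcq : c' ∈ q := hq.1.2 (Ideal.mem_span_singleton_self c')
    have hpq : p ∈ q := h q hqp (q.mul_mem_left _ hcq)
    have hpp : (Ideal.span {p}).IsPrime := (Ideal.span_singleton_prime hp.ne_zero).2 hp
    have hle' : Ideal.span {p} ≤ q := (Ideal.span_singleton_le_iff_mem _).2 hpq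
    rcases hle'.eq_or_lt with h2 | h2
    · apply hc'
      rw [← h2, Ideal.mem_span_singleton] at hcq
      exact hcq
    · have hbot : (⊥ : Ideal R) < Ideal.span {p} := by
        rw [bot_lt_iff_ne_bot, Ne, Ideal.span_singleton_eq_bot]
        exact hp.ne_zero
      have h3 := Ideal.height_add_one_le_of_lt_of_isPrime hbot
      have h4 := Ideal.height_add_one_le_of_lt_of_isPrime h2
      have h5 : (1 : ℕ∞) + 1 ≤ 1 := by
        refine le_trans (add_le_add ?_ le_rfl) (h4.trans h1)
        exact le_trans (by simp) h3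
      exact absurd h5 (by decide)
  obtain ⟨v, rfl⟩ := hu
  rw [Ideal.span_singleton_pow]
  exact Ideal.span_singleton_mul_right_unit v.isUnit _

end Alg

variable {X : Scheme.{u}}

/-- Stalk ideals are compatible with specialization. -/
theorem stalkIdeal_specializes (I : X.IdealSheafData) {y x : X} (h : y ⤳ x) :
    stalkIdeal I y = (stalkIdeal I x).map (X.presheaf.stalkSpecializes h).hom := by
  obtain ⟨U, hxU⟩ := exists_affine x
  have hyU : y ∈ U.1 := h.mem_open U.1.2 hxU
  rw [stalkIdeal_eq I U hxU, stalkIdeal_eq I U hyU, Ideal.map_map]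
  congr 1
  rw [← CommRingCat.hom_comp, TopCat.Presheaf.germ_stalkSpecializes]

theorem exists_eq_pow [IsIntegral X] [IsLocallyNoetherian X]
    (hufd : ∀ x : X, UniqueFactorizationMonoid (X.presheaf.stalk x)) (I : X.IdealSheafData)
    (hI : BlowUp.IsEffCartierIdeal I) [IrreducibleSpace I.subscheme] :
    ∃ (J : X.IdealSheafData) (e : ℕ), BlowUp.IsEffCartierIdeal J ∧ IsReduced J.subscheme ∧ e ≠ 0 ∧
      I = J ^ e ∧ ∃ x : X, x ∈ I.support ∧ ringKrullDim (X.presheaf.stalk x) = 1 := by
  let J := I.radical
  have hJr : IsReduced J.subscheme := Groth.Agent.Ega1.ReducedSub.isReduced_subscheme_radical I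
  have hsupp : J.support = I.support := I.support_radical
  have hJirr : IrreducibleSpace J.subscheme := by
    have h1 : Set.range I.subschemeι = Set.range J.subschemeι := by
      rw [I.range_subschemeι, J.range_subschemeι, hsupp]
    let e : I.subscheme ≃ₜ J.subscheme := I.subschemeι.isEmbedding.toHomeomorph.trans
      ((Homeomorph.setCongr h1).trans J.subschemeι.isEmbedding.toHomeomorph.symm)
    exact e.irreducibleSpace_iff.1 inferInstance
  have hJint : IsIntegral J.subscheme := isIntegral_of_irreducibleSpace_of_isReduced _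
  have hξs : J.subschemeι (genericPoint J.subscheme) ∈ I.support := by
    rw [← hsupp]
    have : J.subschemeι (genericPoint J.subscheme) ∈ Set.range J.subschemeι := ⟨_, rfl⟩
    rwa [J.range_subschemeι] at this
  have key : ∀ y ∈ I.support, J.subschemeι (genericPoint J.subscheme) ⤳ y := by
    intro y hy
    have hy' : y ∈ Set.range J.subschemeι := by rw [J.range_subschemeι, hsupp]; exact hy
    obtain ⟨z, rfl⟩ := hy'
    exact (genericPoint_specializes z).map J.subschemeι.continuous
  have hdim : ringKrullDim (X.presheaf.stalk (J.subschemeι (genericPoint J.subscheme))) = 1 :=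
    Groth.Agent.S1568.result X I hI _ hξs fun y hy hyξ => (hyξ.antisymm (key y hy)).eq
  have hdom : ∀ x : X, IsDomain (X.presheaf.stalk x) := fun x => inferInstance
  have hJ : BlowUp.IsEffCartierIdeal J :=
    Groth.Agent.S1684.result X J hdim fun x _ => ⟨hdom x, hufd x⟩
  -- the local exponent
  have hloc : ∀ x ∈ I.support, ∃ m : ℕ, stalkIdeal I x = stalkIdeal J x ^ m := by
    intro x hx
    have hxJ : x ∈ J.support := by rw [hsupp]; exact hx
    obtain ⟨c, hc, hIc⟩ := exists_stalkIdeal_eq_span hI x
    obtain ⟨p, hp, hJp⟩ := exists_stalkIdeal_eq_span hJ x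
    have hpr : (Ideal.span {p}).IsPrime := hJp ▸ isPrime_stalkIdeal J hxJ
    have hpp : Prime p := (Ideal.span_singleton_prime (nonZeroDivisors.ne_zero hp)).1 hpr
    obtain ⟨m, hm⟩ := exists_span_eq_pow (nonZeroDivisors.ne_zero hc) hpp fun q hq hcq => by
      have h1 : X.fromSpecStalk x ⟨q, hq⟩ ∈ I.support := by
        rw [fromSpecStalk_mem_support_iff, hIc]
        exact (Ideal.span_singleton_le_iff_mem _).2 hcq
      rw [← hsupp, fromSpecStalk_mem_support_iff, hJp] at h1
      exact (Ideal.span_singleton_le_iff_mem _).1 h1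
    exact ⟨m, by rw [hIc, hJp, hm]⟩
  obtain ⟨e, he⟩ := hloc _ hξs
  have hIJ : I = J ^ e := by
    apply ext_stalkIdeal
    intro x
    rw [stalkIdeal_pow]
    by_cases hx : x ∈ I.support
    · obtain ⟨m, hm⟩ := hloc x hx
      have h1 := stalkIdeal_specializes I (key x hx)
      rw [hm, Ideal.map_pow, ← stalkIdeal_specializes J (key x hx), he] at h1
      obtain ⟨p, hp, hJp⟩ := exists_stalkIdeal_eq_span hJ (J.subschemeι (genericPoint J.subscheme))
      have hnu : ¬ IsUnit p := by
        intro hu
        have h2 : J.subschemeι (genericPoint J.subscheme) ∈ J.support := by rw [hsupp]; exact hξs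
        rw [mem_support_iff_stalkIdeal_ne_top, hJp] at h2
        exact h2 (Ideal.span_singleton_eq_top.2 hu)
      rw [hJp, Ideal.span_singleton_pow, Ideal.span_singleton_pow, Ideal.span_singleton_eq_span_singleton] at h1
      have h3 := (pow_dvd_pow_iff (nonZeroDivisors.ne_zero hp) hnu).1 h1.dvd
      have h4 := (pow_dvd_pow_iff (nonZeroDivisors.ne_zero hp) hnu).1 h1.symm.dvd
      rw [hm, le_antisymm h3 h4]
    · have hxJ : x ∉ J.support := by rw [hsupp]; exact hx
      rw [(notMem_support_iff_stalkIdeal_eq_top I x).1 hx, (notMem_support_iff_stalkIdeal_eq_top J x).1 hxJ,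
        Ideal.top_pow]
  refine ⟨J, e, hJ, hJr, ?_, hIJ, _, hξs, hdim⟩
  rintro rfl
  rw [hIJ, pow_zero] at hξs
  exact hξs

end K513.PowDiv
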