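import Groth.Agent.AbVar.K513.PowDiv
import Groth.Agent.Fga.ZeroClass
import Groth.Agent.Pi1C.ZeroScheme
import Groth.Agent.CurvesC.InvSec

/-!
# A nonzero section of an invertible module with irreducible nonreduced zero scheme: the class is a power
-/

set_option autoImplicit false
universe u

open CategoryTheory CategoryTheory.Limits AlgebraicGeometry TopologicalSpace Opposite

namespace K513.Theta1

open Groth.Agent.Grpsch.PicGrp Groth.Agent.Fga.JacFactor Groth.Agent.Fga.ZeroClass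
open Groth.Agent.Fdesc.LocGen Groth.Agent.Picfga.ZeroDef Groth.Agent.Pi1C.ZeroScheme Groth.Agent.Divis.EffCartier

variable {X : Scheme.{u}}

theorem isZeroIdeal_zeroScheme {L : X.Modules} (hL : PicF.IsInvertible L) (s : Coh.structureModule X ⟶ L) :
    IsZeroIdeal L (sec s ⊤) (PicF2.zeroScheme L s) := by
  intro U e he a ha
  rw [res_sec] at ha
  exact ideal_eq_span s hL U he ha

theorem isEffCartierIdeal_zeroScheme [IsIntegral X] {L : X.Modules} (hL : PicF.IsInvertible L)
    (s : Coh.structureModule X ⟶ L) (hs : s ≠ 0) : BlowUp.IsEffCartierIdeal (PicF2.zeroScheme L s) := by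
  intro y
  obtain ⟨U, hU, hyU, -, e, he⟩ := exists_affine_isGen hL ⊤ y trivial
  obtain ⟨a, ha⟩ := he.exists_eq (sec s U)
  refine ⟨⟨U, hU⟩, hyU, a, ?_, ideal_eq_span s hL ⟨U, hU⟩ he ha⟩
  have ha0 : a ≠ 0 := by
    rintro rfl
    rw [zero_smul] at ha
    apply hs
    apply hom_ext_sec
    have h0 : sec (0 : Coh.structureModule X ⟶ L) ⊤ = 0 := by
      simp [sec]
    rw [h0]
    apply Groth.Agent.CurvesC.InvSec.eq_zero_of_res_eq_zero hL (le_top (a := U)) ⟨y, hyU⟩
    exact (res_sec s _).trans ha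
  have : Nonempty U := ⟨⟨y, hyU⟩⟩
  exact mem_nonZeroDivisors_of_ne_zero ha0

theorem exists_dcl_pow {J : X.IdealSheafData} (hJ : BlowUp.IsEffCartierIdeal J) (n : ℕ) :
    ∃ h : BlowUp.IsEffCartierIdeal (J ^ n), dcl (J ^ n) h = dcl J hJ ^ n := by
  induction n with
  | zero =>
    refine ⟨by rw [pow_zero]; exact isEff_top, ?_⟩
    simp only [pow_zero]
    exact dcl_top
  | succ n ih =>
    obtain ⟨h, e⟩ := ih
    have h' : BlowUp.IsEffCartierIdeal (J ^ (n + 1)) := by
      rw [pow_succ]; exact isEff_mul h hJ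
    refine ⟨h', ?_⟩
    rw [pow_succ (dcl J hJ), ← e, ← dcl_mul h hJ]
    congr 1
    exact pow_succ _ _

theorem exists_pic_pow [IsIntegral X] [IsLocallyNoetherian X]
    (hufd : ∀ x : X, UniqueFactorizationMonoid (X.presheaf.stalk x)) {L : X.Modules}
    (hL : PicF.IsInvertible L) (s : Coh.structureModule X ⟶ L) (hs : s ≠ 0)
    [IrreducibleSpace (PicF2.zeroScheme L s).subscheme]
    (hred : ¬ IsReduced (PicF2.zeroScheme L s).subscheme) :
    ∃ (c : Pic X) (e : ℕ), 2 ≤ e ∧ mk L hL = c ^ e ∧ ∃ x : X, ringKrullDim (X.presheaf.stalk x) = 1 := by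
  have hI := isEffCartierIdeal_zeroScheme hL s hs
  obtain ⟨J, e, hJ, hJr, he0, hIJ, x, -, hx⟩ := PowDiv.exists_eq_pow hufd (PicF2.zeroScheme L s) hI
  obtain ⟨h, hd⟩ := exists_dcl_pow hJ e
  have h1 := mk_eq_inv_dcl hL (sec s ⊤) (isZeroIdeal_zeroScheme hL s) hI
  have h2 : dcl (PicF2.zeroScheme L s) hI = dcl (J ^ e) h := by
    congr 1
  refine ⟨(dcl J hJ)⁻¹, e, ?_, ?_, x, hx⟩
  · by_contra hlt
    have he1 : e = 1 := by omega
    subst he1
    rw [pow_one] at hIJ
    rw [hIJ] at hred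
    exact hred hJr
  · rw [h1, h2, hd, inv_pow]

end K513.Theta1
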