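import Groth.Agent.Etcore.AbTors
import Groth.Agent.Etcore.ZModFree
import Groth.Agent.Sga3C.GrpIrr
import Groth.Agent.Flat2B.SmoothGeom
import Groth.Prelude.Def_AbDual

/-!
# Torsion points of abelian varieties: structure
-/

set_option autoImplicit false
universe u
open CategoryTheory CategoryTheory.Limits AlgebraicGeometry MonoidalCategory CartesianMonoidalCategory
  MonObj

namespace K513.Tors

/-- A smooth group scheme over a field with geometrically connected fibres is geometrically integral. -/
theorem geometricallyIntegral {k : Type u} [Field k] (A : Over (Spec (CommRingCat.of k))) [GrpObj A]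
    [Smooth A.hom] [GeometricallyConnected A.hom] : GeometricallyIntegral A.hom := by
  have : GrpObj (Over.mk A.hom) := inferInstanceAs (GrpObj A)
  have : ConnectedSpace A.left := GeometricallyConnected.connectedSpace_of_subsingleton A.hom
  have := Groth.Agent.Sga3C.GrpIrr.geometricallyIrreducible_of_connectedSpace A.hom
  exact Groth.Agent.Flat2B.SmoothGeom.geometricallyIntegral_of_smooth A.hom

variable {k : Type u} [Field k] [IsAlgClosed k] (A : Over (Spec (CommRingCat.of k))) [GrpObj A]
  [IsCommMonObj A] [IsProper A.hom] [GeometricallyIntegral A.hom]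

omit [IsAlgClosed k] in
theorem card_torsPts [IsSepClosed k] (g : ℕ) (hg : topologicalKrullDim A.left = g) (n : ℕ) (hn : (n : k) ≠ 0) :
    Nat.card (AbDual.torsPts A n (𝟙_ (Over (Spec (CommRingCat.of k))))) = n ^ (2 * g) :=
  Groth.Agent.Etcore.AbTors.card_torsion A g hg n hn

theorem nonempty_mulEquiv (g : ℕ) (hg : topologicalKrullDim A.left = g) (n : ℕ) (hn : 0 < n)
    (hnk : (n : k) ≠ 0) :
    Nonempty (AbDual.torsPts A n (𝟙_ (Over (Spec (CommRingCat.of k)))) ≃*
      Multiplicative (Fin (2 * g) → ZMod n)) := by
  let H := AbDual.torsPts A n (𝟙_ (Over (Spec (CommRingCat.of k))))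
  have hc : Nat.card H = n ^ (2 * g) := card_torsPts A g hg n hnk
  have hfin : Finite H := Nat.finite_of_card_ne_zero (by rw [hc]; exact (pow_pos hn _).ne')
  have hfin' : Finite (Additive H) := hfin
  obtain ⟨e⟩ := Groth.Agent.Etcore.ZModFree.nonempty_equiv_of_card (2 * g) n hn.ne' (Additive H)
    (fun m => by
      apply Additive.toMul.injective
      apply Subtype.ext
      exact m.toMul.2)
    (fun d hd => by
      have hdk : (d : k) ≠ 0 := by
        rintro h
        obtain ⟨c, rfl⟩ := hd
        apply hnk
        rw [Nat.cast_mul, h, zero_mul]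
      rw [← card_torsPts A g hg d hdk]
      refine Nat.card_congr
        { toFun := fun m => ⟨m.1.toMul.1, ?_⟩
          invFun := fun m => ⟨Additive.ofMul ⟨m.1, ?_⟩, ?_⟩
          left_inv := fun m => rfl
          right_inv := fun m => rfl }
      · exact congrArg (fun t : Additive H => t.toMul.1) m.2
      · obtain ⟨c, rfl⟩ := hd
        have := m.2
        rw [AbDual.mem_torsPts] at this ⊢
        rw [pow_mul, this, one_pow]
      · apply Additive.toMul.injective
        apply Subtype.ext
        exact m.2)
  exact ⟨AddEquiv.toMultiplicativeRight e⟩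

end K513.Tors
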