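import Groth.Agent.AbVar.K513.Lam
import Groth.Agent.AbVar.K513.Tors
import Groth.Agent.Sga67.Rigidity
import Groth.Agent.Sga7.H742.P1Dim

/-!
# The polarisation homomorphism of a class; if it is an isomorphism the class is not a proper power
-/

set_option autoImplicit false
universe u

open CategoryTheory Limits MonoidalCategory CartesianMonoidalCategory AlgebraicGeometry
open scoped MonObj

namespace K513.Theta2

open Groth.Agent.Grpsch.PicGrp Groth.Agent.Grpsch.Cube Groth.Agent.Fga.RigGrp K513.Lam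

section Phi

variable {K : Type u} [Field K] {A At : Over (Spec (CommRingCat.of K))} [GrpObj A] [GrpObj At]

omit [GrpObj A] in
theorem XTmap_eq {T T' : Over (Spec (CommRingCat.of K))} (g : T' ⟶ T) :
    PicF.XTmap A.hom g = (A ◁ g).left := by
  apply pullback.hom_ext
  · refine (XTmap_fst A.hom g).trans ?_
    exact (congrArg Over.Hom.left (whiskerLeft_fst A g)).symm
  · refine (XTmap_XTproj A.hom g).trans ?_
    exact (congrArg Over.Hom.left (whiskerLeft_snd A g)).symm

variable {Kp : Precoverage Scheme.{u}}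
  {φ : ∀ T : Over (Spec (CommRingCat.of K)), PicF.Cl (PicF.XT A.hom T) → (T ⟶ At)}

omit [GrpObj A] in
theorem phi_mul (hφ : AbDual.IsDualAV Kp A At φ) {T : Over (Spec (CommRingCat.of K))}
    {x y : Pic (PicF.XT A.hom T)} (hx : AbDual.IsPicZeroCl A.hom T (toCl x))
    (hy : AbDual.IsPicZeroCl A.hom T (toCl y)) :
    φ T (toCl (x * y)) = φ T (toCl x) * φ T (toCl y) := by
  induction x using ind with | _ L hL => ?_
  induction y using ind with | _ M hM => ?_
  exact hφ.mul T L M hx hy

/-- The polarisation map of a class. -/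
noncomputable abbrev pol (φ : ∀ T : Over (Spec (CommRingCat.of K)), PicF.Cl (PicF.XT A.hom T) → (T ⟶ At))
    (c : Pic A.left) : A ⟶ At :=
  φ A (toCl (lam (fst A A) (snd A A) c : Pic (A ⊗ A).left))

variable [GeometricallyConnected A.hom] [LocallyOfFiniteType A.hom] [QuasiCompact A.hom]

theorem isPicZeroCl (c : Pic A.left) :
    AbDual.IsPicZeroCl A.hom A (toCl (lam (fst A A) (snd A A) c : Pic (A ⊗ A).left)) := by
  have h := isPicZeroCl_lam c A (𝟙 A)
  rwa [Category.comp_id] at h

theorem pol_pow (hφ : AbDual.IsDualAV Kp A At φ) (c : Pic A.left) (n : ℕ) :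
    pol φ (c ^ (n + 1)) = pol φ c ^ (n + 1) := by
  induction n with
  | zero => simp
  | succ n ih =>
    rw [pow_succ (pol φ c), ← ih, ← phi_mul hφ (isPicZeroCl _) (isPicZeroCl _), ← lam_mul, ← pow_succ c]

theorem phi_one (hφ : AbDual.IsDualAV Kp A At φ) (T : Over (Spec (CommRingCat.of K))) :
    φ T (toCl (1 : Pic (PicF.XT A.hom T))) = 1 := by
  have h0 : AbDual.IsPicZeroCl A.hom T (toCl (1 : Pic (PicF.XT A.hom T))) := by
    have h := isPicZeroCl_lam (1 : Pic A.left) T (1 : T ⟶ A)
    rwa [lam, map_one, map_one, map_one, inv_one, mul_one, mul_one] at h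
  have h1 := phi_mul hφ h0 h0
  rw [mul_one] at h1
  exact left_eq_mul.1 h1

theorem one_pol (hφ : AbDual.IsDualAV Kp A At φ) (c : Pic A.left) : η[A] ≫ pol φ c = η[At] := by
  have h1 : PicF.pullCl (PicF.XTmap A.hom η[A]) (toCl (lam (fst A A) (snd A A) c : Pic (A ⊗ A).left)) =
      toCl (1 : Pic (PicF.XT A.hom (𝟙_ _))) := by
    rw [← toCl_pull]
    congr 1
    rw [XTmap_eq]
    refine (lam_comp (A ◁ η[A]) (fst A A) (snd A A) c).trans ?_
    have h2 : A ◁ η[A] ≫ snd A A = 1 := by
      rw [whiskerLeft_snd, Hom.one_def]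
      congr 1
      exact toUnit_unique _ _
    rw [h2, lam_one_right]
  rw [pol, ← hφ.relPic.natural A (𝟙_ _) η[A] _ (isPicZeroCl c), h1, phi_one hφ, Hom.one_def,
    toUnit_unit, Category.id_comp]

theorem isMonHom_pol [IsProper A.hom] [GeometricallyIntegral A.hom] [IsProper At.hom]
    (hφ : AbDual.IsDualAV Kp A At φ) (c : Pic A.left) : IsMonHom (pol φ c) where
  one_hom := one_pol hφ c
  mul_hom := by
    rw [Groth.Agent.Sga67.Rigidity.mul_comp_of_pointed A At (pol φ c) (one_pol hφ c), Hom.mul_def]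
    congr 1

end Phi

section Main

variable {k : Type u} [Field k] [IsAlgClosed k] {A At : Over (Spec (CommRingCat.of k))} [GrpObj A]
  [GrpObj At] [IsCommMonObj At] [IsProper At.hom] [GeometricallyIntegral At.hom]

/-- If `f ^ e` is an isomorphism for a homomorphism `f : A ⟶ At` of abelian varieties and `e` invertible, then
`e ^ (2 dim) = 1`. -/
theorem pow_eq_one (f : A ⟶ At) [IsMonHom f] (e : ℕ) (he : (e : k) ≠ 0) [IsIso (f ^ e)] (g : ℕ)
    (hg : topologicalKrullDim At.left = g) : e ^ (2 * g) = 1 := by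
  rw [← K513.Tors.card_torsPts At g hg e he, Nat.card_eq_one_iff_unique]
  refine ⟨⟨fun a b => ?_⟩, ⟨1⟩⟩
  have key : ∀ y : AbDual.torsPts At e (𝟙_ (Over (Spec (CommRingCat.of k)))), y = 1 := by
    rintro ⟨y, hy⟩
    rw [AbDual.mem_torsPts] at hy
    apply Subtype.ext
    change y = 1
    let x : 𝟙_ (Over (Spec (CommRingCat.of k))) ⟶ A := y ≫ inv (f ^ e)
    have hx : x ≫ f ^ e = y := by simp [x]
    rw [MonObj.comp_pow] at hx
    have hxe : x ^ e = 1 := by
      rw [← cancel_mono (f ^ e), MonObj.comp_pow, MonObj.comp_pow, MonObj.one_comp, one_pow,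
        MonObj.pow_comp, hx, hy]
    rw [← hx, ← MonObj.pow_comp, hxe, MonObj.one_comp]
  rw [key a, key b]

end Main

end K513.Theta2
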