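import Groth.Agent.AbVar.K513.Theta1
import Groth.Agent.AbVar.K513.Theta2
import Groth.Agent.S1535
import Groth.Agent.S2821
import Groth.Agent.Models2.CodimStalk

/-!
# The theta divisor of a principal polarization in characteristic zero: irreducible implies reduced
-/

set_option autoImplicit false
universe u

open CategoryTheory Limits MonoidalCategory CartesianMonoidalCategory AlgebraicGeometry
open scoped MonObj

namespace K513.Theta3

open Groth.Agent.Grpsch.PicGrp Groth.Agent.Grpsch.Cube Groth.Agent.Fga.RigGrp K513.Lam K513.Theta2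

theorem ufd_stalk {k : Type u} [Field k] {X : Scheme.{u}} (f : X ⟶ Spec (CommRingCat.of k)) [Smooth f]
    (x : X) : UniqueFactorizationMonoid (X.presheaf.stalk x) := by
  let _ : X.Over (Spec (CommRingCat.of k)) := ⟨f⟩
  have : Smooth (X ↘ (Spec (CommRingCat.of k))) := inferInstanceAs (Smooth f)
  have := Groth.Agent.S1535.result k X x
  exact (Groth.Agent.S2821.result (X.presheaf.stalk x)).2

variable {k : Type u} [Field k] [IsAlgClosed k] [CharZero k]

theorem isReduced {A At : Over (Spec (CommRingCat.of k))} [GrpObj A] [IsProper A.hom] [Smooth A.hom]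
    [GeometricallyConnected A.hom] [GrpObj At] [IsProper At.hom] [Smooth At.hom]
    [GeometricallyConnected At.hom] {Kp : Precoverage Scheme.{u}}
    (φ : ∀ T : Over (Spec (CommRingCat.of k)), PicF.Cl (PicF.XT A.hom T) → (T ⟶ At))
    (hφ : AbDual.IsDualAV Kp A At φ) (L : A.left.Modules) (hL : PicF.IsInvertible L)
    (hiso : IsIso (pol φ (mk L hL))) (s : Coh.structureModule A.left ⟶ L) (hs : s ≠ 0)
    [IrreducibleSpace ↥(PicF2.zeroScheme L s).subscheme] :
    IsReduced (PicF2.zeroScheme L s).subscheme := by
  have := K513.Tors.geometricallyIntegral A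
  have := K513.Tors.geometricallyIntegral At
  have : IsCommMonObj At := isCommMonObj_of_isProper_of_geometricallyIntegral At
  have hint : IsIntegral A.left := GeometricallyIntegral.isIntegral_of_subsingleton A.hom
  have : IsLocallyNoetherian A.left := LocallyOfFiniteType.isLocallyNoetherian A.hom
  by_contra hred
  obtain ⟨c, e, he, hc, x, hx⟩ := K513.Theta1.exists_pic_pow (ufd_stalk A.hom) hL s hs hred
  obtain ⟨n, rfl⟩ : ∃ n, e = n + 1 := ⟨e - 1, by omega⟩
  rw [hc, pol_pow hφ] at hiso
  have := isMonHom_pol hφ c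
  obtain ⟨g, hg⟩ := Groth.Agent.Sga7.H742.P1Dim.exists_dim At
  have h1 := pow_eq_one (pol φ c) (n + 1) (by exact_mod_cast n.succ_ne_zero) g hg
  have hg0 : g = 0 := by
    by_contra h0
    have := Nat.one_lt_pow (show 2 * g ≠ 0 by omega) (show 1 < n + 1 by omega)
    omega
  subst hg0
  have h2 : topologicalKrullDim A.left = topologicalKrullDim At.left := by
    have : IsIso (pol φ c ^ (n + 1)).left := (Over.forget _).map_isIso (pol φ c ^ (n + 1))
    exact IsHomeomorph.topologicalKrullDim_eq _ (Scheme.Hom.homeomorph (pol φ c ^ (n + 1)).left).isHomeomorph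
  have h3 := Groth.Agent.Models2.CodimStalk.ringKrullDim_stalk_le A.left x
  rw [hx, h2, hg] at h3
  exact absurd h3 (by simp)

end K513.Theta3
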