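import Mathlib.GroupTheory.PGroup
import Mathlib.GroupTheory.Coset.Card
import Mathlib.GroupTheory.Index

/-!
# Torsion counts in divisible commutative groups
-/

set_option autoImplicit false

namespace K513.TorsGrp

variable {G : Type*} [CommGroup G]

/-- In a commutative group in which every element is an `n`-th power, `#G[m n] = #G[m] * #G[n]`. -/
theorem card_mul (m n : ℕ) (hdiv : ∀ x : G, ∃ y : G, y ^ n = x) :
    Nat.card (powMonoidHom (m * n) : G →* G).ker =
      Nat.card (powMonoidHom m : G →* G).ker * Nat.card (powMonoidHom n : G →* G).ker := by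
  let f : (powMonoidHom (m * n) : G →* G).ker →* (powMonoidHom m : G →* G).ker :=
    { toFun := fun x => ⟨x.1 ^ n, by
        have h := x.2
        rw [MonoidHom.mem_ker, powMonoidHom_apply] at h ⊢
        rw [← pow_mul, mul_comm n m]; exact h⟩
      map_one' := Subtype.ext (one_pow n)
      map_mul' := fun x y => Subtype.ext (mul_pow _ _ n) }
  have hf : Function.Surjective f := by
    rintro ⟨x, hx⟩
    obtain ⟨y, hy⟩ := hdiv x
    refine ⟨⟨y, ?_⟩, Subtype.ext hy⟩
    rw [MonoidHom.mem_ker, powMonoidHom_apply] at hx ⊢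
    rw [mul_comm, pow_mul, hy, hx]
  have h1 : Nat.card f.ker = Nat.card (powMonoidHom n : G →* G).ker := by
    refine Nat.card_congr
      { toFun := fun x => ⟨x.1.1, ?_⟩
        invFun := fun x => ⟨⟨x.1, ?_⟩, ?_⟩
        left_inv := fun x => rfl
        right_inv := fun x => rfl }
    · have := congrArg Subtype.val (MonoidHom.mem_ker.mp x.2)
      exact this
    · have h := x.2
      rw [MonoidHom.mem_ker, powMonoidHom_apply] at h ⊢
      rw [mul_comm, pow_mul, h, one_pow]
    · exact MonoidHom.mem_ker.mpr (Subtype.ext x.2)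
  rw [← h1, Subgroup.card_eq_card_quotient_mul_card_subgroup f.ker,
    Nat.card_congr (QuotientGroup.quotientKerEquivOfSurjective f hf).toEquiv]

/-- The torsion count is multiplicative in prime powers. -/
theorem card_pow (p e : ℕ) (hdiv : ∀ x : G, ∃ y : G, y ^ p = x) :
    Nat.card (powMonoidHom (p ^ e) : G →* G).ker = Nat.card (powMonoidHom p : G →* G).ker ^ e := by
  induction e with
  | zero =>
    rw [pow_zero, pow_zero]
    have : (powMonoidHom 1 : G →* G).ker = ⊥ := by
      ext x
      rw [MonoidHom.mem_ker, powMonoidHom_apply, pow_one, Subgroup.mem_bot]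
    rw [this, Subgroup.card_bot]
  | succ e ih => rw [pow_succ, card_mul _ _ hdiv, ih, pow_succ]

/-- A finite `p`-torsion subgroup has `p`-power order. -/
theorem exists_card_eq_pow (p : ℕ) [Fact p.Prime] [Finite (powMonoidHom p : G →* G).ker] :
    ∃ r : ℕ, Nat.card (powMonoidHom p : G →* G).ker = p ^ r := by
  have h : IsPGroup p (powMonoidHom p : G →* G).ker := fun x => ⟨1, Subtype.ext (by
    have := x.2
    rw [MonoidHom.mem_ker, powMonoidHom_apply] at this
    rw [pow_one, SubmonoidClass.coe_pow, this, Subgroup.coe_one])⟩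
  exact IsPGroup.iff_card.mp h

/-- The arithmetic of the torsion counts. -/
theorem dvd_and_eq_iff {p g r n e m : ℕ} (hp : p.Prime) (hg : 0 < g) (hr : r ≤ g) (hn : 0 < n)
    (hnem : n = p ^ e * m) :
    (p ^ r) ^ e * m ^ (2 * g) ∣ n ^ (2 * g) ∧
      ((p ^ r) ^ e * m ^ (2 * g) = n ^ (2 * g) ↔ e = 0) := by
  have hm : 0 < m := by
    rcases Nat.eq_zero_or_pos m with h | h
    · rw [hnem, h, mul_zero] at hn; exact absurd hn (lt_irrefl _)
    · exact h
  subst hnem
  constructor
  · rw [mul_pow]
    refine Nat.mul_dvd_mul ?_ dvd_rfl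
    rw [← pow_mul, ← pow_mul]
    refine pow_dvd_pow _ ?_
    rw [mul_comm]
    exact Nat.mul_le_mul_left _ (by omega)
  · constructor
    · intro h
      rw [mul_pow] at h
      have h1 := Nat.eq_of_mul_eq_mul_right (pow_pos hm _) h
      rw [← pow_mul, ← pow_mul] at h1
      have h2 := Nat.pow_right_injective hp.two_le h1
      by_contra he
      have he' : 0 < e := Nat.pos_of_ne_zero he
      have : r * e < e * (2 * g) := by
        rw [mul_comm]
        exact Nat.mul_lt_mul_of_pos_left (by omega) he'
      omega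
    · rintro rfl
      rw [pow_zero, pow_zero, one_mul, one_mul]

end K513.TorsGrp
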