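import Groth.Agent.AbVar.K513.Tors
import Groth.Agent.AbVar.K513.TorsGrp
import Groth.Agent.Books.AlgPts
import Groth.Agent.S1843
import Groth.Agent.S0383

/-!
# Divisibility and torsion counts of abelian varieties over an algebraically closed field
-/

set_option autoImplicit false
universe u
open CategoryTheory CategoryTheory.Limits AlgebraicGeometry MonoidalCategory CartesianMonoidalCategory
  MonObj

namespace K513.Tors

open Groth.Agent.Books.AlgPts

variable {k : Type u} [Field k] [IsAlgClosed k] (A : Over (Spec (CommRingCat.of k))) [GrpObj A]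
  [IsProper A.hom] [GeometricallyIntegral A.hom]

/-- The group of points of an abelian variety over an algebraically closed field is divisible. -/
theorem exists_pow_eq (n : ℕ) (hn : 0 < n) (a : 𝟙_ (Over (Spec (CommRingCat.of k))) ⟶ A) :
    ∃ b : 𝟙_ (Over (Spec (CommRingCat.of k))) ⟶ A, b ^ n = a := by
  have hs := Groth.Agent.S0383.result k A n hn
  obtain ⟨b, hb⟩ := exists_comp_eq_of_pt_mem_range (𝟙 A ^ n) a (hs.surj (pt a))
  refine ⟨b, ?_⟩
  rw [← hb, MonObj.comp_pow, Category.comp_id]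

variable [IsCommMonObj A]

/-- `#A[p](k) ≤ p^g` in characteristic `p`. -/
theorem finite_and_card_le (p : ℕ) [Fact p.Prime] [CharP k p] (g : ℕ)
    (hg : topologicalKrullDim A.left = g) :
    Finite (AbDual.torsPts A p (𝟙_ (Over (Spec (CommRingCat.of k))))) ∧
      Nat.card (AbDual.torsPts A p (𝟙_ (Over (Spec (CommRingCat.of k))))) ≤ p ^ g := by
  have h := Groth.Agent.S1843.result k p A g hg
  let Z : Set A.left := {a : A.left | (𝟙 A ^ p).left a = η[A].left (IsLocalRing.closedPoint k)}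
  have hZ : Z.Finite := Set.finite_of_encard_le_coe h
  let j : AbDual.torsPts A p (𝟙_ (Over (Spec (CommRingCat.of k)))) → Z := fun x => ⟨pt x.1, by
    have hx := x.2
    rw [AbDual.mem_torsPts] at hx
    change (𝟙 A ^ p).left (pt x.1) = _
    rw [← pt_comp, MonObj.comp_pow, Category.comp_id, hx, Hom.one_def]
    congr 1⟩
  have hj : Function.Injective j := fun x y hxy => Subtype.ext (pt_injective (congrArg Subtype.val hxy))
  have hfZ : Finite Z := hZ
  refine ⟨Finite.of_injective j hj, ?_⟩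
  refine (Nat.card_le_card_of_injective j hj).trans ?_
  have h2 : (Nat.card Z : ℕ∞) ≤ (p ^ g : ℕ) := by
    rw [Nat.card_coe_set_eq, hZ.cast_ncard_eq]
    exact h
  exact_mod_cast h2

theorem main (g : ℕ) (hg : topologicalKrullDim A.left = g) (hg0 : 0 < g) (n : ℕ) (hn : 0 < n) :
    (∀ a : (𝟙_ (Over (Spec (CommRingCat.of k)))) ⟶ A, ∃ b : (𝟙_ (Over (Spec (CommRingCat.of k)))) ⟶ A, b ^ n = a) ∧
    Nat.card ↥(AbDual.torsPts A n (𝟙_ (Over (Spec (CommRingCat.of k))))) ∣ n ^ (2 * g) ∧
    (Nat.card ↥(AbDual.torsPts A n (𝟙_ (Over (Spec (CommRingCat.of k))))) = n ^ (2 * g) ↔ (n : k) ≠ 0) := by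
  refine ⟨exists_pow_eq A n hn, ?_⟩
  obtain ⟨p, hp⟩ := CharP.exists k
  rcases CharP.char_is_prime_or_zero k p with hpp | hp0
  · have : Fact p.Prime := ⟨hpp⟩
    obtain ⟨hfin, hle⟩ := finite_and_card_le A p g hg
    have : Finite (powMonoidHom p : (𝟙_ (Over (Spec (CommRingCat.of k))) ⟶ A) →* _).ker := hfin
    obtain ⟨r, hr⟩ := TorsGrp.exists_card_eq_pow (G := 𝟙_ (Over (Spec (CommRingCat.of k))) ⟶ A) p
    have hrg : r ≤ g := by
      have h1 : p ^ r ≤ p ^ g := by rw [← hr]; exact hle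
      exact (Nat.pow_le_pow_iff_right hpp.one_lt).mp h1
    obtain ⟨e, m, hm, hnem⟩ := Nat.exists_eq_pow_mul_and_not_dvd hn.ne' p hpp.ne_one
    have hmk : (m : k) ≠ 0 := by
      rw [Ne, CharP.cast_eq_zero_iff k p m]
      exact hm
    have hcard : Nat.card ↥(AbDual.torsPts A n (𝟙_ (Over (Spec (CommRingCat.of k))))) =
        (p ^ r) ^ e * m ^ (2 * g) := by
      have hm0 : 0 < m := Nat.pos_of_ne_zero (by rintro rfl; exact hm (dvd_zero p))
      have h1 := TorsGrp.card_mul (G := 𝟙_ (Over (Spec (CommRingCat.of k))) ⟶ A) (p ^ e) m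
        (exists_pow_eq A m hm0)
      have h2 := TorsGrp.card_pow (G := 𝟙_ (Over (Spec (CommRingCat.of k))) ⟶ A) p e
        (exists_pow_eq A p hpp.pos)
      rw [hr] at h2
      rw [h2, ← hnem] at h1
      refine h1.trans ?_
      congr 1
      exact card_torsPts A g hg m hmk
    rw [hcard]
    obtain ⟨h1, h2⟩ := TorsGrp.dvd_and_eq_iff hpp hg0 hrg hn hnem
    refine ⟨h1, h2.trans ?_⟩
    rw [Ne, CharP.cast_eq_zero_iff k p n]
    constructor
    · rintro rfl
      rw [pow_zero, _root_.one_mul] at hnem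
      rwa [hnem]
    · intro h
      by_contra he
      apply h
      rw [hnem]
      exact dvd_mul_of_dvd_left (dvd_pow_self p he) m
  · subst hp0
    have : CharZero k := CharP.charP_to_charZero k
    have hnk : (n : k) ≠ 0 := Nat.cast_ne_zero.mpr hn.ne'
    have h := card_torsPts A g hg n hnk
    exact ⟨h ▸ dvd_rfl, by simp [h, hnk]⟩

end K513.Tors
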